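import Mathlib
import Groth.Prelude.Def_CAlgX
import Groth.Agent.Lib.Helper5.Car.DL1

set_option autoImplicit false

namespace Groth.Agent.H5.RJ

open TensorProduct KaehlerDifferential

universe u

section eps

variable {B : Type*} [CommRing B] (J : Ideal B) {N : Type*} [AddCommGroup N] [Module B N]

/-- `(B/J) ⊗ N → N` for `N` killed by `J`. -/
noncomputable def epsN (hN : ∀ x ∈ J, ∀ n : N, x • n = 0) : (B ⧸ J) ⊗[B] N →ₗ[B] N :=
  TensorProduct.lift (Submodule.liftQ J (LinearMap.lsmul B N) (fun x hx => by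
    rw [LinearMap.mem_ker]
    ext n
    exact hN x hx n))

lemma epsN_tmul (hN : ∀ x ∈ J, ∀ n : N, x • n = 0) (x : B) (n : N) :
    epsN J hN (Ideal.Quotient.mk J x ⊗ₜ n) = x • n := by
  rw [epsN, TensorProduct.lift.tmul]
  rfl

end eps

section split

variable {B C : Type*} [CommRing B] [CommRing C] [Algebra B C]
  (hC : Function.Surjective (algebraMap B C))
  {X Y Z : Type*} [AddCommGroup X] [AddCommGroup Y] [AddCommGroup Z] [Module B X] [Module B Y]
  [Module B Z] [Module C Y] [Module C Z] [IsScalarTower B C Y] [IsScalarTower B C Z]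

include hC in
lemma exists_retraction (u : X →ₗ[B] Y) (v : Y →ₗ[B] Z) (hex : Function.Exact u v)
    (hu : Function.Injective u) (hv : Function.Surjective v) [Module.Projective C Z] :
    ∃ r : Y →ₗ[B] X, r ∘ₗ u = LinearMap.id := by
  obtain ⟨l, hl⟩ := Module.projective_lifting_property (v.extendScalarsOfSurjective hC)
    LinearMap.id hv
  have := (hex.split_tfae'.out 0 1 rfl rfl).mp ⟨hu, l.restrictScalars B, by
    ext z
    exact LinearMap.congr_fun hl z⟩
  exact this.2

end split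

section lift

variable {Λ B : Type u} [CommRing Λ] [CommRing B] [Algebra Λ B] (J : Ideal B)

/-- Lifting of linear maps out of `Ω[B⁄Λ]` along surjections of modules killed by a power of `J`,
for an adically formally smooth algebra. -/
lemma exists_linearMap_lift (h : CAlgX.IsAdicFormallySmooth Λ B J) (j : ℕ)
    {N' N : Type u} [AddCommGroup N'] [AddCommGroup N] [Module B N'] [Module B N]
    (hj : ∀ x ∈ J ^ j, ∀ n : N', x • n = 0) (π : N' →ₗ[B] N) (hπ : Function.Surjective π)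
    (g : Ω[B⁄Λ] →ₗ[B] N) : ∃ g' : Ω[B⁄Λ] →ₗ[B] N', π ∘ₗ g' = g := by
  letI : Module Λ N := Module.compHom N (algebraMap Λ B)
  letI : Module Λ N' := Module.compHom N' (algebraMap Λ B)
  haveI : IsScalarTower Λ B N := IsScalarTower.of_algebraMap_smul (fun r x => rfl)
  haveI : IsScalarTower Λ B N' := IsScalarTower.of_algebraMap_smul (fun r x => rfl)
  obtain ⟨D', hD'⟩ := DL.exists_derivation_lift J h j hj π hπ
    (g.compDer (KaehlerDifferential.D Λ B))
  refine ⟨D'.liftKaehlerDifferential, ?_⟩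
  apply Derivation.liftKaehlerDifferential_unique
  ext b
  change π (D'.liftKaehlerDifferential (KaehlerDifferential.D Λ B b)) = g (KaehlerDifferential.D Λ B b)
  rw [Derivation.liftKaehlerDifferential_comp_D, hD']
  rfl

end lift

section extP

variable (Λ A B : Type u) [CommRing Λ] [CommRing A] [CommRing B] [Algebra Λ A] [Algebra A B]
  [Algebra Λ B] [IsScalarTower Λ A B]

/-- The extension property: every linear map `B ⊗ Ω_{A/Λ} → N` extends to `Ω_{B/Λ}`. -/
def ExtP (N : Type u) [AddCommGroup N] [Module B N] : Prop :=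
  ∀ f : B ⊗[A] Ω[A⁄Λ] →ₗ[B] N, ∃ g : Ω[B⁄Λ] →ₗ[B] N, g ∘ₗ mapBaseChange Λ A B = f

variable {Λ A B} (J : Ideal B)
  (r : (B ⧸ J) ⊗[B] Ω[B⁄Λ] →ₗ[B] (B ⧸ J) ⊗[B] (B ⊗[A] Ω[A⁄Λ]))
  (hr : r ∘ₗ (mapBaseChange Λ A B).lTensor (B ⧸ J) = LinearMap.id)

include hr in
lemma extP_of_retraction (N : Type u) [AddCommGroup N] [Module B N]
    (hN : ∀ x ∈ J, ∀ n : N, x • n = 0) : ExtP Λ A B N := by
  intro f
  refine ⟨epsN J hN ∘ₗ f.lTensor (B ⧸ J) ∘ₗ r ∘ₗ TensorProduct.mk B (B ⧸ J) Ω[B⁄Λ] 1, ?_⟩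
  ext p
  have h1 : (TensorProduct.mk B (B ⧸ J) Ω[B⁄Λ] 1) (mapBaseChange Λ A B p) =
      (mapBaseChange Λ A B).lTensor (B ⧸ J) ((1 : B ⧸ J) ⊗ₜ p) := by
    rw [LinearMap.lTensor_tmul]
    rfl
  have h2 : r ((mapBaseChange Λ A B).lTensor (B ⧸ J) ((1 : B ⧸ J) ⊗ₜ p)) = (1 : B ⧸ J) ⊗ₜ p :=
    LinearMap.congr_fun hr _
  simp only [LinearMap.comp_apply]
  rw [h1, h2, LinearMap.lTensor_tmul, ← map_one (Ideal.Quotient.mk J), epsN_tmul, one_smul]

include hr in
theorem extP_of_killed (hΛ : CAlgX.IsAdicFormallySmooth Λ B J) (k : ℕ) :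
    ∀ (N : Type u) [AddCommGroup N] [Module B N], (∀ x ∈ J ^ k, ∀ n : N, x • n = 0) →
      ExtP Λ A B N := by
  induction k with
  | zero =>
    intro N _ _ hN f
    have h0 : ∀ n : N, n = 0 := fun n => by
      have := hN 1 (by rw [pow_zero, Ideal.one_eq_top]; trivial) n
      rwa [one_smul] at this
    exact ⟨0, by ext p; exact (h0 _).trans (h0 _).symm⟩
  | succ k ih =>
    intro N _ _ hN f
    let N₁ : Submodule B N := J • (⊤ : Submodule B N)
    have hN₁ : ∀ x ∈ J ^ k, ∀ n : N₁, x • n = 0 := by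
      rintro x hx ⟨n, hn⟩
      apply Subtype.ext
      change x • n = 0
      refine Submodule.smul_induction_on hn ?_ ?_
      · intro y hy n' _
        rw [smul_smul]
        exact hN _ (by rw [pow_succ]; exact Ideal.mul_mem_mul hx hy) n'
      · intro a b ha hb
        rw [smul_add, ha, hb, add_zero]
    have hNq : ∀ x ∈ J, ∀ n : N ⧸ N₁, x • n = 0 := by
      intro x hx n
      obtain ⟨n, rfl⟩ := Submodule.Quotient.mk_surjective _ n
      rw [← Submodule.Quotient.mk_smul, Submodule.Quotient.mk_eq_zero]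
      exact Submodule.smul_mem_smul hx trivial
    obtain ⟨gq, hgq⟩ := extP_of_retraction J r hr (N ⧸ N₁) hNq (N₁.mkQ ∘ₗ f)
    obtain ⟨g', hg'⟩ := exists_linearMap_lift J hΛ (k + 1) hN N₁.mkQ
      (Submodule.mkQ_surjective _) gq
    have hmem : ∀ p, (f - g' ∘ₗ mapBaseChange Λ A B) p ∈ N₁ := by
      intro p
      rw [← Submodule.Quotient.mk_eq_zero, LinearMap.sub_apply, Submodule.Quotient.mk_sub,
        sub_eq_zero]
      have h1 := LinearMap.congr_fun hgq p
      have h2 := LinearMap.congr_fun hg' (mapBaseChange Λ A B p)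
      simp only [LinearMap.comp_apply, Submodule.mkQ_apply] at h1 h2
      rw [LinearMap.comp_apply, h2, h1]
    obtain ⟨g₁, hg₁⟩ := ih N₁ hN₁ ((f - g' ∘ₗ mapBaseChange Λ A B).codRestrict N₁ hmem)
    refine ⟨g' + N₁.subtype ∘ₗ g₁, ?_⟩
    ext p
    have h3 := LinearMap.congr_fun hg₁ p
    have h4 : (N₁.subtype (g₁ (mapBaseChange Λ A B p)) : N) =
        f p - g' (mapBaseChange Λ A B p) := by
      rw [LinearMap.comp_apply] at h3
      rw [h3]
      rfl
    simp only [LinearMap.comp_apply, LinearMap.add_apply]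
    rw [h4]
    abel

end extP

end Groth.Agent.H5.RJ
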