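import Mathlib
import Groth.Prelude.Def_CAlgX
import Groth.Agent.Lib.Helper5.PB.PB17
import Groth.Agent.Lib.Helper5.GrSym.B
import Groth.Agent.Lib.Helper5.CA.GR1
import Groth.Agent.Lib.Helper5.RJ.A

set_option autoImplicit false

namespace Groth.Agent.H5.RJ

open TensorProduct KaehlerDifferential TrivSqZeroExt

universe u

attribute [local instance] H5.PB.opMod H5.PB.isCentralScalar_opMod

section extder

variable {A B C : Type u} [CommRing A] [CommRing B] [CommRing C] [Algebra A B] [Algebra A C]
  [Algebra B C] [IsScalarTower A B C] (J : Ideal B)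
  {L : Type u} [AddCommGroup L] [Module C L] [Module A L] [IsScalarTower A C L] [Module B L]
  [IsScalarTower B C L]

/-- Extension of derivations of the base along an adically formally smooth algebra, with values
in a module over a quotient killing a power of the ideal. -/
theorem exists_derivation_extension_int (hB : CAlgX.IsAdicFormallySmooth A B J) (k : ℕ)
    (hJ : ∀ x ∈ J ^ k, algebraMap B C x = 0) (D : Derivation ℤ A L) :
    ∃ D' : Derivation ℤ B L, ∀ a, D' (algebraMap A B a) = D a := by
  obtain ⟨v, hv⟩ := GrSym.adic_exists_lift_of_surjective J hB (H5.PB.qE (B := C) D)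
    (H5.PB.qE_surjective D) (H5.PB.ker_qE_isNilpotent D) (IsScalarTower.toAlgHom A B C)
    ⟨k, hJ⟩
  have hfst : ∀ b, TrivSqZeroExt.fst (v b : TrivSqZeroExt C L) = algebraMap B C b := fun b =>
    AlgHom.congr_fun hv b
  refine ⟨{ toLinearMap := AddMonoidHom.toIntLinearMap
              { toFun := fun b => TrivSqZeroExt.snd (v b : TrivSqZeroExt C L)
                map_zero' := by rw [map_zero]; rfl
                map_add' := fun b c => by rw [map_add]; rfl }
            map_one_eq_zero' := by
              change TrivSqZeroExt.snd (v 1 : TrivSqZeroExt C L) = 0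
              rw [map_one]; rfl
            leibniz' := fun b c => by
              change TrivSqZeroExt.snd (v (b * c) : TrivSqZeroExt C L) =
                b • TrivSqZeroExt.snd (v c : TrivSqZeroExt C L) +
                  c • TrivSqZeroExt.snd (v b : TrivSqZeroExt C L)
              rw [map_mul]
              have := TrivSqZeroExt.snd_mul (v b : TrivSqZeroExt C L) (v c : TrivSqZeroExt C L)
              rw [hfst b, hfst c] at this
              rw [← algebraMap_smul C b, ← algebraMap_smul C c]
              exact this }, fun a => ?_⟩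
  change TrivSqZeroExt.snd (v (algebraMap A B a) : TrivSqZeroExt C L) = D a
  rw [v.commutes]
  rfl

end extder

section extderL

variable {Λ A B C : Type u} [CommRing Λ] [CommRing A] [CommRing B] [CommRing C] [Algebra Λ A]
  [Algebra A B] [Algebra Λ B] [IsScalarTower Λ A B] [Algebra A C]
  [Algebra B C] [IsScalarTower A B C] (J : Ideal B)
  {L : Type u} [AddCommGroup L] [Module C L] [Module A L] [IsScalarTower A C L] [Module B L]
  [IsScalarTower B C L] [Module Λ L] [IsScalarTower Λ A L] [IsScalarTower Λ B L]

omit [IsScalarTower Λ A L] in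
theorem exists_derivation_extension (hB : CAlgX.IsAdicFormallySmooth A B J) (k : ℕ)
    (hJ : ∀ x ∈ J ^ k, algebraMap B C x = 0) (d : Derivation Λ A L) :
    ∃ D' : Derivation Λ B L, ∀ a, D' (algebraMap A B a) = d a := by
  obtain ⟨D₀, hD₀⟩ := exists_derivation_extension_int (C := C) J hB k hJ (d.restrictScalars ℤ)
  have hD₀' : ∀ a, D₀ (algebraMap A B a) = d a := hD₀
  refine ⟨{ toLinearMap :=
              { toFun := fun b => D₀ b
                map_add' := fun b c => map_add D₀ b c
                map_smul' := fun r b => by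
                  rw [RingHom.id_apply, Algebra.smul_def, Derivation.leibniz,
                    IsScalarTower.algebraMap_apply Λ A B, hD₀', d.map_algebraMap, smul_zero,
                    add_zero, ← IsScalarTower.algebraMap_apply Λ A B, algebraMap_smul] }
            map_one_eq_zero' := D₀.map_one_eq_zero
            leibniz' := fun b c => D₀.leibniz b c }, fun a => hD₀' a⟩

end extderL

section partII

variable {Λ A B : Type u} [CommRing Λ] [CommRing A] [CommRing B] [Algebra Λ A] [Algebra A B]
  [Algebra Λ B] [IsScalarTower Λ A B] (J : Ideal B)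

theorem isAdic_comp [Algebra.FormallySmooth Λ A] (hB : CAlgX.IsAdicFormallySmooth A B J) :
    CAlgX.IsAdicFormallySmooth Λ B J :=
  GR.isAdicFormallySmooth_trans Λ A B ⊥ J (by rw [Ideal.map_bot]; exact bot_le)
    (GR.isAdicFormallySmooth_of_formallySmooth Λ A ⊥) hB

omit [Algebra Λ A] [Algebra Λ B] [IsScalarTower Λ A B] in
theorem projective_tensor_kaehler (hB : CAlgX.IsAdicFormallySmooth A B J) :
    Module.Projective (B ⧸ J) ((B ⧸ J) ⊗[B] Ω[B⁄A]) := by
  have hπ : Function.Surjective ((Finsupp.linearCombination (B ⧸ J)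
      (id : (B ⧸ J) ⊗[B] Ω[B⁄A] → (B ⧸ J) ⊗[B] Ω[B⁄A])).restrictScalars B) :=
    Finsupp.linearCombination_id_surjective (B ⧸ J) _
  have hkill : ∀ x ∈ J ^ 1, ∀ n : ((B ⧸ J) ⊗[B] Ω[B⁄A]) →₀ (B ⧸ J), x • n = 0 := by
    intro x hx n
    rw [pow_one] at hx
    rw [← algebraMap_smul (B ⧸ J) x n, Ideal.Quotient.algebraMap_eq,
      Ideal.Quotient.eq_zero_iff_mem.mpr hx, zero_smul]
  obtain ⟨g', hg'⟩ := exists_linearMap_lift (Λ := A) J hB 1 hkill _ hπ
    (TensorProduct.mk B (B ⧸ J) Ω[B⁄A] 1)
  refine Module.Projective.of_split (LinearMap.liftBaseChange (B ⧸ J) g')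
    (Finsupp.linearCombination (B ⧸ J) id) ?_
  apply TensorProduct.AlgebraTensorModule.ext
  intro c ω
  rw [LinearMap.comp_apply, LinearMap.liftBaseChange_tmul, map_smul, LinearMap.id_apply]
  have h1 := LinearMap.congr_fun hg' ω
  rw [LinearMap.comp_apply] at h1
  change c • (Finsupp.linearCombination (B ⧸ J) id).restrictScalars B (g' ω) = _
  rw [h1, TensorProduct.mk_apply, TensorProduct.smul_tmul', smul_eq_mul, mul_one]

theorem injective_lTensor_mapBaseChange (hB : CAlgX.IsAdicFormallySmooth A B J) :
    Function.Injective ((mapBaseChange Λ A B).lTensor (B ⧸ J)) := by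
  let j : Ω[A⁄Λ] →ₗ[A] (B ⧸ J) ⊗[B] (B ⊗[A] Ω[A⁄Λ]) :=
    ((TensorProduct.mk B (B ⧸ J) (B ⊗[A] Ω[A⁄Λ]) 1).restrictScalars A) ∘ₗ
      (TensorProduct.mk A B Ω[A⁄Λ] 1)
  have hj : ∀ ω, j ω = (1 : B ⧸ J) ⊗ₜ[B] ((1 : B) ⊗ₜ[A] ω) := fun ω => rfl
  obtain ⟨D', hD'⟩ := exists_derivation_extension (C := B ⧸ J) J hB 1
    (fun x hx => by
      rw [pow_one] at hx
      exact Ideal.Quotient.eq_zero_iff_mem.mpr hx)
    (j.compDer (KaehlerDifferential.D Λ A))
  have key : ∀ p : B ⊗[A] Ω[A⁄Λ], D'.liftKaehlerDifferential (mapBaseChange Λ A B p) =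
      (1 : B ⧸ J) ⊗ₜ[B] p := by
    have h0 : (D'.liftKaehlerDifferential.restrictScalars A) ∘ₗ KaehlerDifferential.map Λ Λ A B =
        j := by
      apply Derivation.liftKaehlerDifferential_unique
      ext a
      change D'.liftKaehlerDifferential (KaehlerDifferential.map Λ Λ A B
        (KaehlerDifferential.D Λ A a)) = j (KaehlerDifferential.D Λ A a)
      rw [map_D, Derivation.liftKaehlerDifferential_comp_D, hD']
      rfl
    have h1 : D'.liftKaehlerDifferential ∘ₗ mapBaseChange Λ A B =
        TensorProduct.mk B (B ⧸ J) (B ⊗[A] Ω[A⁄Λ]) 1 := by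
      apply TensorProduct.AlgebraTensorModule.ext
      intro b ω
      rw [LinearMap.comp_apply, mapBaseChange_tmul, map_smul, TensorProduct.mk_apply]
      have h2 := LinearMap.congr_fun h0 ω
      rw [LinearMap.comp_apply] at h2
      change D'.liftKaehlerDifferential (KaehlerDifferential.map Λ Λ A B ω) = _ at h2
      rw [h2, hj, TensorProduct.smul_tmul', TensorProduct.smul_tmul, TensorProduct.smul_tmul',
        smul_eq_mul, mul_one]
    exact fun p => LinearMap.congr_fun h1 p
  have hr : ∀ x, LinearMap.liftBaseChange (B ⧸ J) D'.liftKaehlerDifferential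
      ((mapBaseChange Λ A B).lTensor (B ⧸ J) x) = x := by
    intro x
    induction x using TensorProduct.induction_on with
    | zero => rw [map_zero, map_zero]
    | add x y hx hy => rw [map_add, map_add, hx, hy]
    | tmul c p =>
      rw [LinearMap.lTensor_tmul, LinearMap.liftBaseChange_tmul, key, TensorProduct.smul_tmul',
        smul_eq_mul, mul_one]
  exact Function.LeftInverse.injective hr

end partII

end Groth.Agent.H5.RJ
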