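import Mathlib

set_option autoImplicit false

namespace Groth.Agent.H5.RJ

open TensorProduct

universe u

section completion

variable {A : Type u} [CommRing A] (I : Ideal A) {M : Type u} [AddCommGroup M] [Module A M]
  (d : Derivation ℤ A M)

lemma der_mem (k : ℕ) (x : A) (hx : x ∈ I ^ (k + 1)) : d x ∈ (I ^ k • ⊤ : Submodule A M) := by
  induction k generalizing x with
  | zero => rw [pow_zero, Ideal.one_eq_top, Submodule.top_smul]; trivial
  | succ k ih =>
    rw [pow_succ] at hx
    refine Submodule.mul_induction_on hx ?_ ?_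
    · intro a ha b hb
      rw [Derivation.leibniz]
      refine add_mem (Submodule.smul_mem_smul ha trivial) ?_
      have : (I ^ (k + 1) • ⊤ : Submodule A M) = I • (I ^ k • ⊤ : Submodule A M) := by
        rw [pow_succ', Submodule.mul_smul]
      rw [this]
      exact Submodule.smul_mem_smul hb (ih a ha)
    · intro a b ha hb
      rw [map_add]
      exact add_mem ha hb

lemma mem_of_mk_eq (n : ℕ) (y y' : A)
    (h : (Submodule.Quotient.mk y : A ⧸ (I ^ n • ⊤ : Submodule A A)) = Submodule.Quotient.mk y') :
    y - y' ∈ I ^ n := by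
  have := (Submodule.Quotient.eq _).mp h
  simpa using this

lemma mk_der_eq (n : ℕ) (y y' : A)
    (h : (Submodule.Quotient.mk y : A ⧸ (I ^ (n + 1) • ⊤ : Submodule A A)) =
      Submodule.Quotient.mk y') :
    (Submodule.Quotient.mk (d y) : M ⧸ (I ^ n • ⊤ : Submodule A M)) =
      Submodule.Quotient.mk (d y') := by
  rw [Submodule.Quotient.eq, ← map_sub]
  exact der_mem I d n _ (mem_of_mk_eq I (n + 1) y y' h)

/-- A chosen representative of a component. -/
noncomputable def repr (x : AdicCompletion I A) (n : ℕ) : A :=
  (Submodule.Quotient.mk_surjective _ (x.val n)).choose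

lemma mk_repr (x : AdicCompletion I A) (n : ℕ) :
    (Submodule.Quotient.mk (repr I x n) : A ⧸ (I ^ n • ⊤ : Submodule A A)) = x.val n :=
  (Submodule.Quotient.mk_surjective _ (x.val n)).choose_spec

lemma mk_eq_of_le (x : AdicCompletion I A) {m n : ℕ} (hmn : m ≤ n) (y : A)
    (hy : x.val n = Submodule.Quotient.mk y) :
    x.val m = (Submodule.Quotient.mk y : A ⧸ (I ^ m • ⊤ : Submodule A A)) := by
  rw [← x.property hmn, hy]
  rfl

/-- The completed derivation, as a function. -/
noncomputable def Dh (x : AdicCompletion I A) : AdicCompletion I M :=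
  ⟨fun n => Submodule.Quotient.mk (d (repr I x (n + 1))), by
    intro m n hmn
    change (Submodule.Quotient.mk (d (repr I x (n + 1))) : M ⧸ (I ^ m • ⊤ : Submodule A M)) =
      Submodule.Quotient.mk (d (repr I x (m + 1)))
    apply mk_der_eq
    rw [← mk_eq_of_le I x (Nat.succ_le_succ hmn) _ (mk_repr I x (n + 1)).symm, mk_repr]⟩

lemma Dh_val (x : AdicCompletion I A) (n : ℕ) (y : A)
    (hy : x.val (n + 1) = Submodule.Quotient.mk y) :
    (Dh I d x).val n = Submodule.Quotient.mk (d y) := by
  change (Submodule.Quotient.mk (d (repr I x (n + 1))) : M ⧸ (I ^ n • ⊤ : Submodule A M)) = _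
  apply mk_der_eq
  rw [mk_repr, hy]

/-- The completed derivation. -/
noncomputable def Dhat : Derivation ℤ (AdicCompletion I A) (AdicCompletion I M) where
  toLinearMap := AddMonoidHom.toIntLinearMap
    { toFun := Dh I d
      map_zero' := by
        ext n
        rw [Dh_val I d 0 n 0 rfl, map_zero]
        rfl
      map_add' := fun x y => by
        ext n
        rw [Dh_val I d (x + y) n (repr I x (n + 1) + repr I y (n + 1))
          (by rw [AdicCompletion.val_add, Pi.add_apply, ← mk_repr, ← mk_repr]; rfl),
          AdicCompletion.val_add, Pi.add_apply, Dh_val I d x n _ (mk_repr I x (n + 1)).symm,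
          Dh_val I d y n _ (mk_repr I y (n + 1)).symm, map_add]
        rfl }
  map_one_eq_zero' := by
    ext n
    change (Dh I d 1).val n = 0
    rw [Dh_val I d 1 n 1 rfl, Derivation.map_one_eq_zero]
    rfl
  leibniz' := fun x y => by
    ext n
    change (Dh I d (x * y)).val n = (x • Dh I d y + y • Dh I d x).val n
    have hx := (mk_repr I x (n + 1)).symm
    have hy := (mk_repr I y (n + 1)).symm
    rw [Dh_val I d (x * y) n (repr I x (n + 1) * repr I y (n + 1))
      (by rw [AdicCompletion.val_mul, hx, hy]; rfl),
      AdicCompletion.val_add, Pi.add_apply, AdicCompletion.smul_eval, AdicCompletion.smul_eval,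
      Dh_val I d x n _ hx, Dh_val I d y n _ hy,
      mk_eq_of_le I x (Nat.le_succ n) _ hx, mk_eq_of_le I y (Nat.le_succ n) _ hy,
      Derivation.leibniz]
    rfl

lemma Dhat_of (a : A) : Dhat I d (AdicCompletion.of I A a) = AdicCompletion.of I M (d a) := by
  ext n
  change (Dh I d (AdicCompletion.of I A a)).val n = _
  rw [Dh_val I d _ n a rfl]
  rfl

end completion

end Groth.Agent.H5.RJ
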