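import Mathlib
import Groth.Prelude.Def_CAlgX
import Groth.Prelude.Def_PP16
import Groth.Agent.Lib.Helper5.AFS.J
import Groth.Agent.Lib.Helper5.RJ.A

set_option autoImplicit false

namespace Groth.Agent.H5.RJ

open TensorProduct KaehlerDifferential

universe u

section retr

variable {Λ A B : Type u} [CommRing Λ] [CommRing A] [CommRing B] [Algebra Λ A] [Algebra A B]
  [Algebra Λ B] [IsScalarTower Λ A B] (J : Ideal B)

lemma exists_retraction_of_hyps
    (h3 : Function.Injective ((mapBaseChange Λ A B).lTensor (B ⧸ J)))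
    (h4 : Module.Projective (B ⧸ J) ((B ⧸ J) ⊗[B] Ω[B⁄A])) :
    ∃ r : (B ⧸ J) ⊗[B] Ω[B⁄Λ] →ₗ[B] (B ⧸ J) ⊗[B] (B ⊗[A] Ω[A⁄Λ]),
      r ∘ₗ (mapBaseChange Λ A B).lTensor (B ⧸ J) = LinearMap.id :=
  exists_retraction (C := B ⧸ J) Ideal.Quotient.mk_surjective _
    ((KaehlerDifferential.map Λ A B B).lTensor (B ⧸ J))
    (lTensor_exact (B ⧸ J) (exact_mapBaseChange_map Λ A B) (map_surjective Λ A B)) h3
    (LinearMap.lTensor_surjective _ (map_surjective Λ A B))

end retr

section assemble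

variable {Λ A B E : Type u} [CommRing Λ] [CommRing A] [CommRing B] [CommRing E] [Algebra Λ A]
  [Algebra A B] [Algebra Λ B] [IsScalarTower Λ A B] [Algebra A E] [Algebra Λ E]
  [IsScalarTower Λ A E] [Algebra B E] [IsScalarTower Λ B E]

theorem assemble (N : Ideal E) (hN : N ^ 2 = ⊥)
    (hdiff : ∀ a : A, algebraMap B E (algebraMap A B a) - algebraMap A E a ∈ N)
    (hext : ExtP Λ A B ↥N) :
    ∃ χ : B →ₐ[A] E, ∀ b, χ b - algebraMap B E b ∈ N := by
  have hmul : ∀ x ∈ N, ∀ y ∈ N, x * y = 0 := by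
    intro x hx y hy
    have : x * y ∈ N ^ 2 := by rw [pow_two]; exact Ideal.mul_mem_mul hx hy
    rwa [hN, Ideal.mem_bot] at this
  haveI : IsScalarTower A B ↥N := ⟨fun a b n => by
    apply Subtype.ext
    rw [Submodule.coe_smul_of_tower, Submodule.coe_smul_of_tower, Submodule.coe_smul_of_tower,
      Algebra.smul_def, Algebra.smul_def, Algebra.smul_def, Algebra.smul_def, map_mul,
      ← sub_eq_zero]
    have e : algebraMap B E (algebraMap A B a) * algebraMap B E b * (n : E) -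
        algebraMap A E a * (algebraMap B E b * (n : E)) =
        (algebraMap B E (algebraMap A B a) - algebraMap A E a) * (algebraMap B E b * (n : E)) := by
      ring
    rw [e]
    exact hmul _ (hdiff a) _ (Ideal.mul_mem_left _ _ n.2)⟩
  let f₁ : A →ₐ[Λ] E := (IsScalarTower.toAlgHom Λ B E).comp (IsScalarTower.toAlgHom Λ A B)
  have e₁ : (Ideal.Quotient.mkₐ Λ N).comp f₁ = IsScalarTower.toAlgHom Λ A (E ⧸ N) := by
    ext a
    exact Ideal.Quotient.eq.mpr (hdiff a)
  let d : Derivation Λ A ↥N := derivationToSquareZeroOfLift N hN f₁ e₁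
  have hd : ∀ a, ((d a : ↥N) : E) = algebraMap B E (algebraMap A B a) - algebraMap A E a :=
    fun a => derivationToSquareZeroOfLift_apply N hN f₁ e₁ a
  let f : B ⊗[A] Ω[A⁄Λ] →ₗ[B] ↥N := LinearMap.liftBaseChange B d.liftKaehlerDifferential
  obtain ⟨g, hg⟩ := hext f
  let D : Derivation Λ B ↥N := g.compDer (KaehlerDifferential.D Λ B)
  have hD : ∀ a, D (algebraMap A B a) = d a := by
    intro a
    change g (KaehlerDifferential.D Λ B (algebraMap A B a)) = d a
    have h1 : KaehlerDifferential.D Λ B (algebraMap A B a) =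
        mapBaseChange Λ A B ((1 : B) ⊗ₜ KaehlerDifferential.D Λ A a) := by
      rw [mapBaseChange_tmul, one_smul, map_D]
    rw [h1, ← LinearMap.comp_apply, hg]
    change LinearMap.liftBaseChange B d.liftKaehlerDifferential
      ((1 : B) ⊗ₜ KaehlerDifferential.D Λ A a) = d a
    rw [LinearMap.liftBaseChange_tmul, one_smul, Derivation.liftKaehlerDifferential_comp_D]
  let χ' : B →ₐ[Λ] E := liftOfDerivationToSquareZero N hN (-D)
  have hχ' : ∀ b, χ' b = ((-D) b : ↥N) + algebraMap B E b := fun b =>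
    liftOfDerivationToSquareZero_apply N hN (-D) b
  refine ⟨{ χ'.toRingHom with commutes' := ?_ }, ?_⟩
  · intro a
    change χ' (algebraMap A B a) = algebraMap A E a
    rw [hχ', Derivation.neg_apply, hD, Submodule.coe_neg, hd]
    ring
  · intro b
    change χ' b - algebraMap B E b ∈ N
    rw [hχ', add_sub_cancel_right]
    exact ((-D) b).2

end assemble

section partI

variable {Λ A B : Type u} [CommRing Λ] [CommRing A] [CommRing B] [Algebra Λ A] [Algebra A B]
  [Algebra Λ B] [IsScalarTower Λ A B] (J : Ideal B) [Algebra.FormallySmooth Λ (B ⧸ J)]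

theorem isAdic_of_four (h1 : Module.Projective (B ⧸ J) J.Cotangent)
    (h2 : PP16.SymGrBijective B J)
    (h3 : Function.Injective ((mapBaseChange Λ A B).lTensor (B ⧸ J)))
    (h4 : Module.Projective (B ⧸ J) ((B ⧸ J) ⊗[B] Ω[B⁄A])) :
    CAlgX.IsAdicFormallySmooth A B J := by
  have hΛ : CAlgX.IsAdicFormallySmooth Λ B J :=
    AFS.isAdic_of_projective_of_symGrBijective (R := Λ) J h2
  obtain ⟨r, hr⟩ := exists_retraction_of_hyps J h3 h4
  intro E _ _ N hN ψ ⟨k, hk⟩
  letI : Algebra Λ E := ((algebraMap A E).comp (algebraMap Λ A)).toAlgebra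
  haveI : IsScalarTower Λ A E := IsScalarTower.of_algebraMap_eq (fun _ => rfl)
  obtain ⟨χ₀, hχ₀⟩ := hΛ E N hN (ψ.restrictScalars Λ) ⟨k, hk⟩
  have hχ₀' : ∀ b, Ideal.Quotient.mk N (χ₀ b) = ψ b := fun b => AlgHom.congr_fun hχ₀ b
  letI : Algebra B E := χ₀.toRingHom.toAlgebra
  haveI : IsScalarTower Λ B E := IsScalarTower.of_algebraMap_eq (fun r => (χ₀.commutes r).symm)
  have halg : ∀ b, algebraMap B E b = χ₀ b := fun b => rfl
  have hmul : ∀ x ∈ N, ∀ y ∈ N, x * y = 0 := by
    intro x hx y hy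
    have : x * y ∈ N ^ 2 := by rw [pow_two]; exact Ideal.mul_mem_mul hx hy
    rwa [hN, Ideal.mem_bot] at this
  have hdiff : ∀ a : A, algebraMap B E (algebraMap A B a) - algebraMap A E a ∈ N := by
    intro a
    rw [halg, ← Ideal.Quotient.eq, hχ₀', ψ.commutes]
    rfl
  have hkill : ∀ x ∈ J ^ k, ∀ n : ↥N, x • n = 0 := by
    intro x hx n
    apply Subtype.ext
    rw [Submodule.coe_smul_of_tower, Algebra.smul_def]
    change algebraMap B E x * (n : E) = 0
    refine hmul _ ?_ _ n.2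
    rw [halg, ← Ideal.Quotient.eq_zero_iff_mem, hχ₀']
    exact hk x hx
  obtain ⟨χ, hχ⟩ := assemble (Λ := Λ) (A := A) (B := B) N hN hdiff
    (extP_of_killed J r hr hΛ k ↥N hkill)
  refine ⟨χ, ?_⟩
  apply AlgHom.ext
  intro b
  change Ideal.Quotient.mk N (χ b) = ψ b
  rw [← hχ₀', ← halg, Ideal.Quotient.eq]
  exact hχ b

end partI

end Groth.Agent.H5.RJ
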