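import Mathlib
import Groth.Prelude.Def_CAlgX
import Groth.Prelude.Def_PP16

set_option autoImplicit false

namespace Groth.Agent.H5.RJ

open TensorProduct KaehlerDifferential

universe u

section primeField

variable (k : Type u) [Field k]

/-- Every `ℤ`-derivation of the prime subfield vanishes. -/
lemma derivation_primeField_eq_zero {M : Type*} [AddCommGroup M]
    [Module (⊥ : Subfield k) M] (D : Derivation ℤ (⊥ : Subfield k) M) (x : (⊥ : Subfield k)) :
    D x = 0 := by
  have hle : Subfield.closure (∅ : Set k) ≤ ⊥ := le_of_eq Subfield.closure_empty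
  have key : ∀ (y : k) (hy : y ∈ Subfield.closure (∅ : Set k)), D ⟨y, hle hy⟩ = 0 := by
    intro y hy
    induction hy using Subfield.closure_induction with
    | mem y hy => exact absurd hy (Set.notMem_empty y)
    | one => exact D.map_one_eq_zero
    | add a b ha hb iha ihb =>
      have : (⟨a + b, hle (add_mem ha hb)⟩ : (⊥ : Subfield k)) = ⟨a, hle ha⟩ + ⟨b, hle hb⟩ := rfl
      rw [this, map_add, iha, ihb, add_zero]
    | neg a ha iha =>
      have : (⟨-a, hle (neg_mem ha)⟩ : (⊥ : Subfield k)) = -⟨a, hle ha⟩ := rfl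
      rw [this, map_neg, iha, neg_zero]
    | inv a ha iha =>
      have : (⟨a⁻¹, hle (inv_mem ha)⟩ : (⊥ : Subfield k)) = (⟨a, hle ha⟩ : (⊥ : Subfield k))⁻¹ :=
        rfl
      rw [this, Derivation.leibniz_inv, iha, smul_zero]
    | mul a b ha hb iha ihb =>
      have : (⟨a * b, hle (mul_mem ha hb)⟩ : (⊥ : Subfield k)) = ⟨a, hle ha⟩ * ⟨b, hle hb⟩ := rfl
      rw [this, Derivation.leibniz, iha, ihb, smul_zero, smul_zero, add_zero]
  have hx : (x : k) ∈ Subfield.closure (∅ : Set k) := by
    rw [Subfield.closure_empty]; exact x.2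
  exact key x hx

instance subsingleton_kaehler_primeField : Subsingleton (Ω[(⊥ : Subfield k)⁄ℤ]) := by
  have h : (⊤ : Submodule (⊥ : Subfield k) (Ω[(⊥ : Subfield k)⁄ℤ])) = ⊥ := by
    rw [← KaehlerDifferential.span_range_derivation, Submodule.span_eq_bot]
    rintro _ ⟨x, rfl⟩
    exact derivation_primeField_eq_zero k _ x
  exact (Submodule.subsingleton_iff _).mp (subsingleton_of_bot_eq_top h.symm)

instance perfectField_primeField : PerfectField (⊥ : Subfield k) := by
  obtain ⟨p, hp⟩ := CharP.exists k
  rcases CharP.char_is_prime_or_zero k p with hpp | rfl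
  · haveI : Fact p.Prime := ⟨hpp⟩
    letI : Algebra (ZMod p) k := ZMod.algebra k p
    haveI : Finite (⊥ : Subfield k) := by
      rw [Subfield.bot_eq_of_zMod_algebra p]
      exact Set.finite_range (algebraMap (ZMod p) k)
    exact PerfectField.ofFinite
  · haveI : CharZero k := CharP.charP_to_charZero k
    haveI : CharZero (⊥ : Subfield k) := RingHom.charZero (⊥ : Subfield k).subtype
    exact PerfectField.ofCharZero

end primeField

section compare

variable {P S : Type u} [CommRing P] [CommRing S] [Algebra P S]

lemma map_int_bijective [Subsingleton (Ω[P⁄ℤ])] :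
    Function.Bijective (KaehlerDifferential.map ℤ P S S) := by
  refine ⟨?_, KaehlerDifferential.map_surjective ℤ P S⟩
  rw [injective_iff_map_eq_zero]
  intro x hx
  have hy : ∀ y : S ⊗[P] Ω[P⁄ℤ], y = 0 := by
    intro y
    induction y using TensorProduct.induction_on with
    | zero => rfl
    | add a b ha hb => rw [ha, hb, add_zero]
    | tmul s ω => rw [Subsingleton.elim ω 0, TensorProduct.tmul_zero]
  obtain ⟨y, rfl⟩ := (KaehlerDifferential.exact_mapBaseChange_map ℤ P S x).mp hx
  rw [hy y, map_zero]

end compare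

section transfer

variable {P k A : Type u} [CommRing P] [CommRing k] [CommRing A] [Algebra P k] [Algebra k A]
  [Algebra P A] [IsScalarTower P k A] [Subsingleton (Ω[P⁄ℤ])]
  (K : Type u) [AddCommGroup K] [Module A K]

lemma lTensor_bijective {M N : Type*} [AddCommGroup M] [AddCommGroup N] [Module A M] [Module A N]
    (f : M →ₗ[A] N) (hf : Function.Bijective f) : Function.Bijective (f.lTensor K) := by
  have : f.lTensor K = ((LinearEquiv.ofBijective f hf).lTensor K : K ⊗[A] M →ₗ[A] K ⊗[A] N) := by
    ext; rfl
  rw [this]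
  exact LinearEquiv.bijective _

lemma baseChange_bijective {M N : Type*} [AddCommGroup M] [AddCommGroup N] [Module k M]
    [Module k N] (f : M →ₗ[k] N) (hf : Function.Bijective f) :
    Function.Bijective (f.baseChange A) := by
  have h1 : (f.baseChange A : A ⊗[k] M → A ⊗[k] N) = f.lTensor A := by
    ext x; rfl
  rw [h1]
  have : f.lTensor A = ((LinearEquiv.ofBijective f hf).lTensor A : A ⊗[k] M →ₗ[k] A ⊗[k] N) := by
    ext; rfl
  rw [this]
  exact LinearEquiv.bijective _

omit [Subsingleton (Ω[P⁄ℤ])] in
lemma square :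
    KaehlerDifferential.map ℤ P A A ∘ₗ mapBaseChange ℤ k A =
      mapBaseChange P k A ∘ₗ (KaehlerDifferential.map ℤ P k k).baseChange A := by
  have h0 : ((KaehlerDifferential.map ℤ P A A).restrictScalars k) ∘ₗ
      KaehlerDifferential.map ℤ ℤ k A =
      KaehlerDifferential.map P P k A ∘ₗ KaehlerDifferential.map ℤ P k k := by
    apply Derivation.liftKaehlerDifferential_unique
    ext a
    change KaehlerDifferential.map ℤ P A A (KaehlerDifferential.map ℤ ℤ k A
      (KaehlerDifferential.D ℤ k a)) = KaehlerDifferential.map P P k A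
      (KaehlerDifferential.map ℤ P k k (KaehlerDifferential.D ℤ k a))
    rw [map_D, map_D, map_D, map_D]
    rfl
  apply TensorProduct.AlgebraTensorModule.ext
  intro b ω
  rw [LinearMap.comp_apply, LinearMap.comp_apply, mapBaseChange_tmul, LinearMap.baseChange_tmul,
    mapBaseChange_tmul, map_smul]
  congr 1
  exact LinearMap.congr_fun h0 ω

lemma injective_lTensor_iff :
    Function.Injective ((mapBaseChange ℤ k A).lTensor K) ↔
      Function.Injective ((mapBaseChange P k A).lTensor K) := by
  have hβ := lTensor_bijective K (KaehlerDifferential.map ℤ P A A) (map_int_bijective (P := P))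
  have hα := lTensor_bijective K ((KaehlerDifferential.map ℤ P k k).baseChange A)
    (baseChange_bijective _ (map_int_bijective (P := P)))
  have hsq : ∀ x, (KaehlerDifferential.map ℤ P A A).lTensor K ((mapBaseChange ℤ k A).lTensor K x) =
      (mapBaseChange P k A).lTensor K
        (((KaehlerDifferential.map ℤ P k k).baseChange A).lTensor K x) := by
    intro x
    rw [← LinearMap.comp_apply, ← LinearMap.comp_apply, ← LinearMap.lTensor_comp,
      ← LinearMap.lTensor_comp, square]
  constructor
  · intro h x y hxy
    obtain ⟨x₀, rfl⟩ := hα.2 x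
    obtain ⟨y₀, rfl⟩ := hα.2 y
    rw [← hsq, ← hsq] at hxy
    rw [h (hβ.1 hxy)]
  · intro h x y hxy
    apply hα.1
    apply h
    rw [← hsq, ← hsq, hxy]

end transfer

end Groth.Agent.H5.RJ
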