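import Mathlib
import Groth.Prelude.Def_CAlgX
import Groth.Prelude.Def_PP16
import Groth.Agent.Lib.Helper5.CA.PSAdicSmooth2
import Groth.Agent.Lib.Helper5.AFS.E
import Groth.Agent.Lib.Helper5.RJ.B
import Groth.Agent.Lib.Helper5.RJ.C
import Groth.Agent.Lib.Helper5.RJ.D

set_option autoImplicit false

namespace Groth.Agent.H5.RJ

open TensorProduct KaehlerDifferential IsLocalRing

universe u

theorem isAdic_field_iff {k A : Type u} [Field k] [CommRing A] [IsLocalRing A] [Algebra k A] :
    CAlgX.IsAdicFormallySmooth k A (maximalIdeal A) ↔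
      (PP16.SymGrBijective A (maximalIdeal A) ∧
        Function.Injective ((mapBaseChange ℤ k A).lTensor (A ⧸ maximalIdeal A))) := by
  letI : Algebra (⊥ : Subfield k) A :=
    { toSMul := inferInstance
      algebraMap := (algebraMap k A).comp (⊥ : Subfield k).subtype
      commutes' := fun r x => Algebra.commutes (r : k) x
      smul_def' := fun r x => Algebra.smul_def (r : k) x }
  haveI : IsScalarTower (⊥ : Subfield k) k A := inferInstance
  letI : Field (A ⧸ maximalIdeal A) := Ideal.Quotient.field _
  haveI : Algebra.FormallySmooth (⊥ : Subfield k) k :=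
    CA.formallySmooth_of_perfectField (⊥ : Subfield k) k
  haveI : Algebra.FormallySmooth (⊥ : Subfield k) (A ⧸ maximalIdeal A) :=
    CA.formallySmooth_of_perfectField (⊥ : Subfield k) (A ⧸ maximalIdeal A)
  rw [injective_lTensor_iff (P := (⊥ : Subfield k)) (A ⧸ maximalIdeal A)]
  constructor
  · intro h
    have hΛ := isAdic_comp (Λ := (⊥ : Subfield k)) (maximalIdeal A) h
    haveI : Module.Projective (A ⧸ maximalIdeal A) (maximalIdeal A).Cotangent :=
      Module.Projective.of_free
    exact ⟨AFS.symGrBijective_of_adic (R := (⊥ : Subfield k)) (maximalIdeal A) hΛ,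
      injective_lTensor_mapBaseChange (Λ := (⊥ : Subfield k)) _ h⟩
  · rintro ⟨h2, h3⟩
    exact isAdic_of_four (Λ := (⊥ : Subfield k)) (maximalIdeal A) Module.Projective.of_free h2 h3
      Module.Projective.of_free

end Groth.Agent.H5.RJ
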